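import Groth.Agent.ResProp.EF.K83.FinDatum
import Groth.Agent.ResProp.EF.Grp

/-!
# G6b: from `H` to admissible `E`; small objects.  Interface.

Captain: helper671.  Conventions of `K83.FinDatum`: one (Noetherian) base ring `R`, the group is a
commutative Hopf algebra `A` over `R`, flat; cochains and cohomology are those of the Prelude.
DEFINITIONS AND STATEMENTS ONLY.
-/

set_option autoImplicit false

universe u

open TensorProduct

noncomputable section

namespace Groth.Agent.ResProp.EF.K671

open Groth.Agent.ResProp.EF.K83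

section Push

variable {R : Type u} [CommRing R] {A : Type u} [CommRing A] [HopfAlgebra R A]
  {A' : Type u} [CommRing A'] [HopfAlgebra R A']

/-- The group `Spec A'` acts on `D` through `Spec A' → Spec A`. -/
def push {D : Type u} [CommRing D] [Algebra R D] (c : CoAlg R A D) (ι : A →ₐc[R] A') :
    CoAlg R A' D where
  ρ := (Algebra.TensorProduct.map (AlgHom.id R D) (ι : A →ₐ[R] A')).comp c.ρ
  coassoc x := by
    have h := c.coassoc x
    have e1 : ∀ z : D ⊗[R] A, TensorProduct.assoc R D A' A'
        ((((Algebra.TensorProduct.map (AlgHom.id R D) (ι : A →ₐ[R] A')).comp c.ρ).toLinearMap.rTensor A')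
          ((Algebra.TensorProduct.map (AlgHom.id R D) (ι : A →ₐ[R] A')) z)) =
        TensorProduct.map LinearMap.id (TensorProduct.map (ι : A →ₐ[R] A').toLinearMap
          (ι : A →ₐ[R] A').toLinearMap) (TensorProduct.assoc R D A A (c.ρ.toLinearMap.rTensor A z)) := by
      intro z
      induction z with
      | zero => simp
      | add a b ha hb => simp only [map_add, ha, hb]
      | tmul d a =>
        simp only [Algebra.TensorProduct.map_tmul, AlgHom.coe_id, id_eq, LinearMap.rTensor_tmul,
          AlgHom.toLinearMap_apply, AlgHom.comp_apply]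
        generalize c.ρ d = w
        induction w with
        | zero => simp
        | add a b ha hb => simp only [map_add, TensorProduct.add_tmul, ha, hb]
        | tmul d' a' => simp
    have e2 : ∀ z : D ⊗[R] A, (Coalgebra.comul (R := R) (A := A')).lTensor D
        ((Algebra.TensorProduct.map (AlgHom.id R D) (ι : A →ₐ[R] A')) z) =
        TensorProduct.map LinearMap.id (TensorProduct.map (ι : A →ₐ[R] A').toLinearMap
          (ι : A →ₐ[R] A').toLinearMap) ((Coalgebra.comul (R := R) (A := A)).lTensor D z) := by
      intro z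
      induction z with
      | zero => simp
      | add a b ha hb => simp only [map_add, ha, hb]
      | tmul d a =>
        have h3 := LinearMap.congr_fun (CoalgHomClass.map_comp_comul (ι : A →ₐc[R] A')) a
        simp only [LinearMap.comp_apply] at h3
        simp only [Algebra.TensorProduct.map_tmul, AlgHom.coe_id, id_eq, LinearMap.lTensor_tmul,
          TensorProduct.map_tmul, LinearMap.id_coe]
        congr 1
        exact h3.symm
    rw [AlgHom.comp_apply, e1, e2, h]
  counit x := by
    have h := c.counit x
    have e2 : ∀ z : D ⊗[R] A, (Coalgebra.counit (R := R) (A := A')).lTensor D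
        ((Algebra.TensorProduct.map (AlgHom.id R D) (ι : A →ₐ[R] A')) z) =
        (Coalgebra.counit (R := R) (A := A)).lTensor D z := by
      intro z
      induction z with
      | zero => simp
      | add a b ha hb => simp only [map_add, ha, hb]
      | tmul d a =>
        simp only [Algebra.TensorProduct.map_tmul, AlgHom.coe_id, id_eq, LinearMap.lTensor_tmul]
        congr 1
        exact LinearMap.congr_fun (CoalgHomClass.counit_comp (ι : A →ₐc[R] A')) a
    rw [AlgHom.comp_apply, e2, h]

end Push

section Step

variable (R : Type u) [CommRing R] (A : Type u) [CommRing A] [HopfAlgebra R A]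
  (A' : Type u) [CommRing A'] [HopfAlgebra R A']

/-- A one step extension of the group `A` by a divided power group, in coordinates: `A'` is free
over `A` (through `ι`) with basis `y m`, `m : Fin n →₀ ℕ`, and there are `A`-linear operators
`t i` (derivatives of the right translations by the divided power group) which are the shifts
`y m ↦ y (m - e_i)` and commute with left translations: `Δ ∘ t i = (id ⊗ t i) ∘ Δ`. -/
structure StepData : Type u where
  ι : A →ₐc[R] A'
  n : ℕ
  t : Fin n → (A' →ₗ[R] A')
  y : (Fin n →₀ ℕ) → A'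
  basis : Function.Bijective
    (fun f : (Fin n →₀ ℕ) →₀ A => f.sum fun m a => (ι : A →ₐ[R] A') a * y m)
  y_zero : y 0 = 1
  t_mul : ∀ (i : Fin n) (a : A) (x : A'), t i ((ι : A →ₐ[R] A') a * x) = (ι : A →ₐ[R] A') a * t i x
  t_y : ∀ (i : Fin n) (m : Fin n →₀ ℕ), t i (y m) = if m i = 0 then 0 else y (m - Finsupp.single i 1)
  t_comul : ∀ (i : Fin n) (x : A'), Coalgebra.comul (R := R) (t i x) =
    (t i).lTensor A' (Coalgebra.comul (R := R) x)

/-- **Node B3** (the step): finiteness and vanishing pass from `A` to `A'`. -/
def StmtStep : Prop :=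
  ∀ (R : Type u) [CommRing R] [IsNoetherianRing R] (A : Type u) [CommRing A] [HopfAlgebra R A]
    [Module.Flat R A] (A' : Type u) [CommRing A'] [HopfAlgebra R A'] [Module.Flat R A']
    (S : StepData R A A') (D : Type u) [CommRing D] [IsNoetherianRing D] [Algebra R D]
    (c : CoAlg R A D) (r : ℕ), FinOut R A D c r → FinOut R A' D (push c S.ι) (r + S.n)

/-- **Node B1**: a one step extension of `Grp.lean` has coordinates. -/
def StmtCoord : Prop :=
  ∀ (p : ℕ) (k : Type u) [CommRing k] [Grp.IsLb p k] (E : Grp.Gp k) (S : Grp.OneStep E),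
    ∃ T : StepData k E.O S.E'.O, T.ι = S.ι

end Step

section Cofree

variable (R : Type u) [CommRing R] (A : Type u) [CommRing A] [HopfAlgebra R A]

/-- **Node B3'**: cofree comodules are acyclic (every `R`-module `M`). -/
def StmtCofree : Prop :=
  ∀ (R : Type u) [CommRing R] (A : Type u) [CommRing A] [HopfAlgebra R A]
    (M : Type u) [AddCommGroup M] [Module R M],
    (∀ j, Hoch.cocycles R A (Hoch.Ind R A M) (j + 1) ≤ Hoch.coboundaries R A (Hoch.Ind R A M) (j + 1)) ∧
    (∀ x : Hoch.Ind R A M, HopfRep.Comod.coact (k := R) (A := A) x = x ⊗ₜ[R] (1 : A) →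
      ∃ m : M, x = Hoch.Ind.equiv R A M (m ⊗ₜ[R] (1 : A)))

end Cofree

section Small

variable {R : Type u} [CommRing R] {A : Type u} [CommRing A] [HopfAlgebra R A]
  {P : Type u} [CommRing P] [Algebra R P] {D : Type u} [CommRing D] [Algebra R D]

/-- A submodule stable under the coaction. -/
def IsStable {N : Type u} [AddCommGroup N] [Module R N] [Module P N] [IsScalarTower R P N]
    (co : HopfRep.Comod R A N) (F : Submodule P N) : Prop :=
  ∀ x ∈ F, co.coact x ∈ LinearMap.range ((F.subtype.restrictScalars R).rTensor A)

/-- A filtration of the `P`-module `N` with coaction (no compatibility between the two), with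
stable pieces, such that the graded pieces are `(D, A)`-Hopf modules through `π : P → D`. -/
structure SmallFil (π : P →ₐ[R] D) (c : CoAlg R A D)
    {N : Type u} [AddCommGroup N] [Module R N] [Module P N] [IsScalarTower R P N]
    (co : HopfRep.Comod R A N) (k : ℕ) (F : ℕ → Submodule P N) : Prop where
  mono : ∀ i, F i ≤ F (i + 1)
  zero : F 0 = ⊥
  top : F k = ⊤
  stable : ∀ i, IsStable co (F i)
  ker : ∀ i (p : P) (x : N), π p = 0 → x ∈ F (i + 1) → p • x ∈ F i
  semi : ∀ i (p : P) (x : N) (w : P ⊗[R] A), x ∈ F (i + 1) →
    (π.toLinearMap.rTensor A) w = c.ρ (π p) →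
    co.coact (p • x) - TensorProduct.map₂ (Algebra.lsmul R R N).toLinearMap (LinearMap.mul R A) w
      (co.coact x) ∈ LinearMap.range (((F i).subtype.restrictScalars R).rTensor A)

/-- small objects -/
def IsSmall (π : P →ₐ[R] D) (c : CoAlg R A D)
    {N : Type u} [AddCommGroup N] [Module R N] [Module P N] [IsScalarTower R P N]
    (co : HopfRep.Comod R A N) : Prop :=
  ∃ (k : ℕ) (F : ℕ → Submodule P N), SmallFil π c co k F

/-- A `P`-linear, colinear map. -/
structure IsBiHom {N N' : Type u} [AddCommGroup N] [Module R N] [Module P N] [IsScalarTower R P N]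
    [AddCommGroup N'] [Module R N'] [Module P N'] [IsScalarTower R P N']
    (co : HopfRep.Comod R A N) (co' : HopfRep.Comod R A N') (f : N →ₗ[P] N') : Prop where
  colin : ∀ x, co'.coact (f x) = (f.restrictScalars R).rTensor A (co.coact x)

/-- **Node B4a** (F11): small objects are closed under sub and quotient objects. -/
def StmtSmallSubQuot : Prop :=
  ∀ (R : Type u) [CommRing R] (A : Type u) [CommRing A] [HopfAlgebra R A] [Module.Flat R A]
    (P : Type u) [CommRing P] [Algebra R P] (D : Type u) [CommRing D] [Algebra R D]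
    (π : P →ₐ[R] D) (_ : Function.Surjective π) (c : CoAlg R A D)
    (N N' : Type u) [AddCommGroup N] [Module R N] [Module P N] [IsScalarTower R P N]
    [AddCommGroup N'] [Module R N'] [Module P N'] [IsScalarTower R P N']
    (co : HopfRep.Comod R A N) (co' : HopfRep.Comod R A N') (f : N →ₗ[P] N'), IsBiHom co co' f →
    (Function.Injective f → IsSmall π c co' → IsSmall π c co) ∧
    (Function.Surjective f → IsSmall π c co → IsSmall π c co')

/-- **Node B4b** (F12): output for small objects. -/
def StmtSmallOut : Prop :=
  ∀ (R : Type u) [CommRing R] [IsNoetherianRing R] (A : Type u) [CommRing A] [HopfAlgebra R A]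
    [Module.Flat R A] (P : Type u) [CommRing P] [IsNoetherianRing P] [Algebra R P]
    (D : Type u) [CommRing D] [Algebra R D]
    (π : P →ₐ[R] D) (_ : Function.Surjective π) (c : CoAlg R A D) (r : ℕ), FinOut R A D c r →
    ∀ (N : Type u) [AddCommGroup N] [Module R N] [Module P N] [IsScalarTower R P N]
      [co : HopfRep.Comod R A N], IsSmall π c co →
      (∀ j, r < j → Subsingleton (Hoch.H R A N j)) ∧
      (Module.Finite P N → ∀ j, Module.Finite R (Hoch.H R A N j))

end Small

section BaseChange

variable (R : Type u) [CommRing R] {k : Type u} [CommRing k] [Algebra k R]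

/-- the base changed homomorphism of groups -/
def bc {O O' : Type u} [CommRing O] [HopfAlgebra k O] [CommRing O'] [HopfAlgebra k O']
    (φ : O →ₐc[k] O') : (R ⊗[k] O) →ₐc[R] (R ⊗[k] O') :=
  Bialgebra.TensorProduct.map (BialgHom.id R R) φ

/-- **Node B1'**: base change of step data. -/
def StmtStepBC : Prop :=
  ∀ (R : Type u) [CommRing R] (k : Type u) [CommRing k] [Algebra k R]
    (O : Type u) [CommRing O] [HopfAlgebra k O] (O' : Type u) [CommRing O'] [HopfAlgebra k O']
    (T : StepData k O O'), ∃ T' : StepData R (R ⊗[k] O) (R ⊗[k] O'), T'.ι = bc R T.ι ∧ T'.n = T.n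

/-- **The output of G6b** (with `StmtSmallOut` for the small objects). -/
def StmtG6b : Prop :=
  ∀ (p : ℕ) (k : Type u) [CommRing k] [Grp.IsLb p k] (R : Type u) [CommRing R] [IsNoetherianRing R]
    [Algebra k R] (H : Grp.Gp k) (D : Type u) [CommRing D] [IsNoetherianRing D] [Algebra R D]
    (c : CoAlg R (R ⊗[k] H.O) D) (r : ℕ), FinOut R (R ⊗[k] H.O) D c r →
    ∀ (E : Grp.Gp k) (ι : H.O →ₐc[k] E.O), Grp.Adm H E ι →
      ∃ r' : ℕ, FinOut R (R ⊗[k] E.O) D (push c (bc R ι)) r'

end BaseChange

end Groth.Agent.ResProp.EF.K671
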