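import Groth.Agent.ResProp.EF.K671.Iface
import Groth.Agent.ResProp.EF.K350.ShiftData

/-!
# G6b: the assembly `StmtOneStepShift → StmtShiftBase → StmtFinStep → StmtG6b`
-/

set_option autoImplicit false

universe u

open TensorProduct

noncomputable section

namespace Groth.Agent.ResProp.EF.K671

open Groth.Agent.ResProp.EF.K83

section

variable (R : Type u) [CommRing R] {k : Type u} [CommRing k] [Algebra k R]

theorem bc_tmul {O O' : Type u} [CommRing O] [HopfAlgebra k O] [CommRing O'] [HopfAlgebra k O']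
    (φ : O →ₐc[k] O') (r : R) (x : O) : bc R φ (r ⊗ₜ[k] x) = r ⊗ₜ[k] φ x := rfl

theorem bc_apply {O O' : Type u} [CommRing O] [HopfAlgebra k O] [CommRing O'] [HopfAlgebra k O']
    (φ : O →ₐc[k] O') (z : R ⊗[k] O) : bc R φ z = (φ : O →ₐ[k] O').toLinearMap.lTensor R z := by
  induction z with
  | zero => simp
  | add a b ha hb => simp only [map_add, ha, hb]
  | tmul a b => rfl

theorem push_ρ {A : Type u} [CommRing A] [HopfAlgebra R A] {A' : Type u} [CommRing A']
    [HopfAlgebra R A'] {D : Type u} [CommRing D] [Algebra R D] (c : CoAlg R A D) (ι : A →ₐc[R] A')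
    (x : D) : (push c ι).ρ x = (ι : A →ₐ[R] A').toLinearMap.lTensor D (c.ρ x) := by
  change Algebra.TensorProduct.map (AlgHom.id R D) (ι : A →ₐ[R] A') (c.ρ x) = _
  generalize c.ρ x = z
  induction z with
  | zero => simp
  | add a b ha hb => simp only [map_add, ha, hb]
  | tmul a b => rfl

theorem coAlg_ext {A : Type u} [CommRing A] [HopfAlgebra R A] {D : Type u} [CommRing D]
    [Algebra R D] {c c' : CoAlg R A D} (h : ∀ x, c.ρ x = c'.ρ x) : c = c' := by
  obtain ⟨ρ, h1, h2⟩ := c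
  obtain ⟨ρ', h1', h2'⟩ := c'
  obtain rfl : ρ = ρ' := AlgHom.ext h
  rfl

theorem push_id {O : Type u} [CommRing O] [HopfAlgebra k O] {D : Type u} [CommRing D]
    [Algebra R D] (c : CoAlg R (R ⊗[k] O) D) : push c (bc R (BialgHom.id k O)) = c := by
  refine coAlg_ext R fun x => ?_
  rw [push_ρ]
  have : (bc R (BialgHom.id k O) : (R ⊗[k] O) →ₐ[R] (R ⊗[k] O)).toLinearMap = LinearMap.id := by
    ext z
    rfl
  rw [this, LinearMap.lTensor_id, LinearMap.id_apply]

end

theorem stmtG6b (h1 : K350.StmtOneStepShift.{u}) (h2 : K350.StmtShiftBase.{u})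
    (h3 : K350.StmtFinStep.{u}) : StmtG6b.{u} := by
  intro p k _ _ R _ _ _ H D _ _ _ c r hr E ι hE
  induction hE with
  | base => exact ⟨r, by rw [push_id]; exact hr⟩
  | step E ι hE S ih =>
    obtain ⟨r', hr'⟩ := ih
    obtain ⟨T⟩ := h1 p k E S
    obtain ⟨ιR, hι, ⟨T'⟩⟩ := h2 k R E.O S.E'.O S.ι T
    refine ⟨r' + T'.r, h3 R (R ⊗[k] E.O) (R ⊗[k] S.E'.O) ιR T' D (push c (bc R ι))
      (push c (bc R (S.ι.comp ι))) ?_ r' hr'⟩
    intro x
    rw [push_ρ, push_ρ, ← LinearMap.comp_apply, ← LinearMap.lTensor_comp]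
    congr 2
    refine LinearMap.ext fun z => ?_
    change bc R (S.ι.comp ι) z = ιR (bc R ι z)
    rw [hι, bc_apply, bc_apply, ← LinearMap.comp_apply, ← LinearMap.lTensor_comp]
    rfl

end Groth.Agent.ResProp.EF.K671
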