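import Groth.Agent.ResProp.EF.Arch
import Groth.Agent.ResProp.EF.K671.Top
import Groth.Agent.ResProp.EF.K805.Bridge
import Groth.Agent.ResProp.EF.K967.SmallOps
import Groth.Agent.ResProp.EF.K967.SmallHom

/-!
# Seam between `Arch.lean` (KernelDatum, `Small`) and G6b (`K981.Small`, `FinOut`) on the chart
-/

set_option autoImplicit false
set_option linter.dupNamespace false
set_option linter.unusedSectionVars false
set_option linter.style.haveILetI false

open CategoryTheory Opposite TensorProduct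

noncomputable section

namespace Groth.Agent.ResProp.EF.K671

open K784.BC K784.PM K741.RP EF56 K294 Grp Arch K83

universe u

section Chart

variable {k : Type u} [CommRing k] {A : NFᵒᵖ ⥤ CommRingCat.{u}} [GRF k A]
variable {E : Gp k} {P : Type u} [CommRing P] [Algebra (A.obj (op ⟨0⟩)) P]

theorem mulk_rTensor (M : PM.{u} A) (a : NF) (r : A.obj (op a)) (z : M.obj a ⊗[k] E.O) :
    (mulk (k := k) M a r).rTensor E.O z = r • z := by
  induction z with
  | zero => simp
  | add a b ha hb => simp only [map_add, smul_add, ha, hb]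
  | tmul m b => rfl

theorem rlin (X : SObj k A E P) :
    K805.RLin k E.O (A.obj (op ⟨0⟩)) (X.e.co ⟨0⟩) := fun r n => by
  rw [X.e.lin, mulk_rTensor]

/-- the chart value of an `SObj` as a comodule over `R ⊗[k] O(E)` -/
@[reducible] def chartComod (X : SObj k A E P) :
    HopfRep.Comod (A.obj (op ⟨0⟩)) ((A.obj (op ⟨0⟩) : Type u) ⊗[k] E.O) (X.M.obj ⟨0⟩) :=
  K805.toR (X.e.co ⟨0⟩) (rlin X)

theorem chartComod_coact (X : SObj k A E P) (m : X.M.obj ⟨0⟩) :
    (chartComod X).coact m =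
      K805.up k E.O (LinearMap.id : X.M.obj ⟨0⟩ →ₗ[A.obj (op ⟨0⟩)] X.M.obj ⟨0⟩) ((X.e.co ⟨0⟩).coact m) := rfl

/-- a morphism of `SObj` on the chart -/
def chartMap {X X' : SObj k A E P} (f : X.Hom X') : X.M.obj ⟨0⟩ →ₗ[P] X'.M.obj ⟨0⟩ :=
  { (f.f ⟨0⟩).toAddMonoidHom with map_smul' := fun q m => f.pl q m }

theorem chartMap_restrict {X X' : SObj k A E P} (f : X.Hom X') :
    (chartMap f).restrictScalars (A.obj (op ⟨0⟩)) = f.f ⟨0⟩ := rfl

theorem up_natural {O R : Type u} [CommRing O] [Bialgebra k O] [CommRing R] [Algebra k R]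
    {X Y : Type u} [AddCommGroup X] [Module k X] [Module R X] [IsScalarTower k R X]
    [AddCommGroup Y] [Module k Y] [Module R Y] [IsScalarTower k R Y] (f : X →ₗ[R] Y) (z : X ⊗[k] O) :
    K805.up k O (LinearMap.id : Y →ₗ[R] Y) ((f.restrictScalars k).rTensor O z) =
      f.rTensor (R ⊗[k] O) (K805.up k O (LinearMap.id : X →ₗ[R] X) z) := by
  induction z with
  | zero => simp
  | add a b ha hb => simp only [map_add, ha, hb]
  | tmul m b => simp

theorem chartMap_equi {X X' : SObj k A E P} (f : X.Hom X') :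
    K981.Equi (chartComod X) (chartComod X') (chartMap f) := fun m => by
  rw [chartComod_coact, chartComod_coact]
  change K805.up k E.O _ ((X'.e.co ⟨0⟩).coact (f.f ⟨0⟩ m)) = _
  rw [f.equi]
  exact up_natural (f.f ⟨0⟩) _

end Chart

section PureCase

variable {k : Type u} [CommRing k] {R : Type u} [CommRing R] [Algebra k R]
  {O O' : Type u} [CommRing O] [HopfAlgebra k O] [CommRing O'] [HopfAlgebra k O'] (ι : O →ₐc[k] O')
  {D : Type u} [CommRing D] [Algebra k D] [Algebra R D] [IsScalarTower k R D]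
  {P : Type u} [CommRing P] [Algebra R P] (π : P →ₐ[R] D)
  {M : Type u} [AddCommGroup M] [Module k M] [Module R M] [IsScalarTower k R M]
  [Module D M] [IsScalarTower R D M] [IsScalarTower k D M] [Module P M] [IsScalarTower R P M]

theorem key_up (w : D ⊗[k] O) (y : M ⊗[k] O) :
    K805.up k O' (LinearMap.id : M →ₗ[R] M) ((ι : O →ₐ[k] O').toLinearMap.lTensor M
      (TensorProduct.map₂ (Algebra.lsmul k k M : D →ₐ[k] Module.End k M).toLinearMap (LinearMap.mul k O) w y)) =
    K981.act R (R ⊗[k] O') D M ((bc R ι : (R ⊗[k] O) →ₐ[R] (R ⊗[k] O')).toLinearMap.lTensor D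
      ((AlgebraTensorModule.cancelBaseChange k R R D O).symm w))
      (K805.up k O' (LinearMap.id : M →ₗ[R] M) ((ι : O →ₐ[k] O').toLinearMap.lTensor M y)) := by
  induction w with
  | zero => simp
  | add a b ha hb => simp only [map_add, LinearMap.add_apply, ha, hb]
  | tmul d a =>
    induction y with
    | zero => simp
    | add a b ha hb => simp only [map_add, ha, hb]
    | tmul m b =>
      have h2 : TensorProduct.map₂ (Algebra.lsmul k k M : D →ₐ[k] Module.End k M).toLinearMap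
          (LinearMap.mul k O) (d ⊗ₜ[k] a) (m ⊗ₜ[k] b) = (d • m) ⊗ₜ[k] (a * b) := rfl
      rw [h2, LinearMap.lTensor_tmul, LinearMap.lTensor_tmul, K805.up_tmul,
        K805.up_tmul, AlgebraTensorModule.cancelBaseChange_symm_tmul, LinearMap.lTensor_tmul]
      have h1 : (bc R ι : (R ⊗[k] O) →ₐ[R] (R ⊗[k] O')).toLinearMap ((1 : R) ⊗ₜ[k] a) = (1 : R) ⊗ₜ[k] ι a := rfl
      rw [h1, LinearMap.id_apply, LinearMap.id_apply, K981.act_tmul, Algebra.TensorProduct.tmul_mul_tmul, mul_one]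
      change (d • m) ⊗ₜ[R] ((1 : R) ⊗ₜ[k] (ι (a * b))) = (d • m) ⊗ₜ[R] ((1 : R) ⊗ₜ[k] (ι a * ι b))
      rw [map_mul]

theorem act_through (hact : ∀ (q : P) (m : M), q • m = π q • m) (x : P ⊗[R] (R ⊗[k] O'))
    (y : M ⊗[R] (R ⊗[k] O')) :
    K981.act R (R ⊗[k] O') P M x y =
      K981.act R (R ⊗[k] O') D M (π.toLinearMap.rTensor (R ⊗[k] O') x) y := by
  induction x with
  | zero => simp
  | add a b ha hb => simp only [map_add, LinearMap.add_apply, ha, hb]
  | tmul p a =>
    induction y with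
    | zero => simp
    | add a b ha hb => simp only [map_add, ha, hb]
    | tmul m b =>
      rw [K981.act_tmul, LinearMap.rTensor_tmul, K981.act_tmul, hact]
      rfl

theorem small_pure (ρk : CoAlg k O D) (cR : CoAlg R (R ⊗[k] O) D)
    (hcR : ∀ z : D, AlgebraTensorModule.cancelBaseChange k R R D O (cR.ρ z) = ρk.ρ z)
    (coH : HopfRep.Comod k O M) (co : HopfRep.Comod k O' M) (hlin : K805.RLin k O' R co)
    (hthr : ∀ m : M, co.coact m = (ι : O →ₐ[k] O').toLinearMap.lTensor M (coH.coact m))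
    (hopf : ∀ (d : D) (m : M), coH.coact (d • m) =
      TensorProduct.map₂ (Algebra.lsmul k k M : D →ₐ[k] Module.End k M).toLinearMap (LinearMap.mul k O)
        (ρk.ρ d) (coH.coact m))
    (hact : ∀ (q : P) (m : M), q • m = π q • m) :
    K981.Small (P := P) π (push cR (bc R ι)).ρ (K805.toR co hlin) := by
  let F : ℕ → Submodule P M := fun i => if i = 0 then ⊤ else ⊥
  have hF : ∀ i, F (i + 1) = ⊥ := fun i => if_neg (Nat.succ_ne_zero i)
  refine ⟨⟨1, F, fun i => ?_, if_pos rfl, hF 0, fun i => ?_, fun i p hp v _ => ?_,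
    fun i p x hx v _ => ?_⟩⟩
  · rw [hF]; exact bot_le
  · rcases i with _ | i
    · exact K981.Stable.top _
    · rw [hF]; exact K981.Stable.bot _
  · rw [hact, hp, zero_smul]
    exact Submodule.zero_mem _
  · have h0 : (K805.toR co hlin).coact (p • v) = K981.act R (R ⊗[k] O') P M x ((K805.toR co hlin).coact v) := by
      rw [act_through π hact]
      change K805.up k O' (LinearMap.id : M →ₗ[R] M) (co.coact (p • v)) =
        K981.act R (R ⊗[k] O') D M (π.toLinearMap.rTensor (R ⊗[k] O') x)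
          (K805.up k O' (LinearMap.id : M →ₗ[R] M) (co.coact v))
      have hx' : π.toLinearMap.rTensor (R ⊗[k] O') x = (push cR (bc R ι)).ρ (π p) := hx
      rw [hthr, hthr, hact, hopf, key_up ι, hx', push_ρ, ← hcR, LinearEquiv.symm_apply_apply]
    rw [h0, sub_self, map_zero]

end PureCase

section Small

variable {k : Type u} [CommRing k] {A : NFᵒᵖ ⥤ CommRingCat.{u}} [GRF k A]
variable {x : PrimeSpectrum (A.obj (op ⟨0⟩))} (c : CoverDatum k A x)
variable {E : Gp k} (ι : c.H.O →ₐc[k] E.O)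
variable {P : Type u} [CommRing P] [Algebra (A.obj (op ⟨0⟩)) P]
  (π : P →ₐ[A.obj (op ⟨0⟩)] c.Y.D.obj (op ⟨0⟩))

theorem small_chart (X : SObj k A E P) (h : Arch.Small c ι π X) :
    K981.Small (P := P) π (push c.cR (bc (A.obj (op ⟨0⟩)) ι)).ρ (chartComod X) := by
  induction h with
  | zero X hX =>
    refine ⟨⟨0, fun _ => ⊤, fun _ => le_rfl, rfl, ?_, fun _ => K981.Stable.top _, fun _ _ _ _ _ => trivial,
      fun i p y hy v _ => ?_⟩⟩
    · rw [eq_bot_iff]
      intro v _
      rw [Subsingleton.elim v 0]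
      exact Submodule.zero_mem _
    · rw [Subsingleton.elim v 0]
      simp
  | pure X hX =>
    obtain ⟨hX⟩ := hX
    letI := hX.md ⟨0⟩
    haveI : IsScalarTower (A.obj (op ⟨0⟩)) (c.Y.D.obj (op ⟨0⟩)) (X.M.obj ⟨0⟩) := ⟨fun r s n => by
      rw [Algebra.smul_def, mul_smul]
      exact hX.tower ⟨0⟩ r _⟩
    haveI : IsScalarTower k (c.Y.D.obj (op ⟨0⟩)) (X.M.obj ⟨0⟩) := ⟨fun r s n => by
      rw [Algebra.smul_def, mul_smul]
      exact hX.tower ⟨0⟩ (algebraMap k (A.obj (op ⟨0⟩)) r) _⟩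
    exact small_pure ι π (c.ρ ⟨0⟩) c.cR c.cR_eq (hX.coH ⟨0⟩) (X.e.co ⟨0⟩) (rlin X)
      (hX.through ⟨0⟩) (hX.hopf ⟨0⟩) hX.act
  | ext X' X X'' i q hi hiq hq _ _ h' h'' =>
    exact K967.Small.of_ext (chartMap i) (chartMap_equi i) (chartMap q) (chartMap_equi q) hiq h' h''

omit c in
theorem noeth_chart (k : Type u) [CommRing k] (A : NFᵒᵖ ⥤ CommRingCat.{u}) [GRF k A] (p : ℕ) [h : IsLb p k] :
    IsNoetherianRing (A.obj (op ⟨0⟩)) := by
  haveI := h.pid
  haveI := GRF.ft (k := k) (A := A)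
  exact Algebra.FiniteType.isNoetherianRing k (A.obj (op ⟨0⟩))

theorem noeth_P (p : ℕ) [IsLb p k] (K : KernelDatum c) : IsNoetherianRing K.P := by
  haveI := noeth_chart k A p
  haveI := K.ftP
  exact Algebra.FiniteType.isNoetherianRing (A.obj (op ⟨0⟩)) K.P

/-- the group acts on `D` over `R` through `E → H` -/
abbrev cE : CoAlg (A.obj (op ⟨0⟩)) ((A.obj (op ⟨0⟩) : Type u) ⊗[k] E.O) (c.Y.D.obj (op ⟨0⟩)) :=
  push c.cR (bc (A.obj (op ⟨0⟩)) ι)

/-- **G6b for a kernel datum**: finiteness and vanishing of `H^*(E, -)` on `(D, E)`-modules; the terms of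
the kernel complex are small on the chart. -/
theorem kernelOut (hFIN : StmtFIN.{u}) (hG6b : StmtG6b.{u}) (p : ℕ) [IsLb p k] (K : KernelDatum c) :
    ∃ r' : ℕ, FinOut (A.obj (op ⟨0⟩)) ((A.obj (op ⟨0⟩) : Type u) ⊗[k] K.E.O) (c.Y.D.obj (op ⟨0⟩)) (cE c K.ι) r' := by
  haveI := c.fin.noeth
  haveI := noeth_chart k A p
  exact hG6b p k (A.obj (op ⟨0⟩)) c.H (c.Y.D.obj (op ⟨0⟩)) c.cR c.fin.r
    (hFIN _ _ _ c.cR c.fin) K.E K.ι K.adm

theorem kernel_small (K : KernelDatum c) (n : ℤ) :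
    K981.Small (P := K.P) K.π (cE c K.ι).ρ (chartComod (K.K n)) := small_chart c K.ι K.π _ (K.small n)

end Small

end Groth.Agent.ResProp.EF.K671
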