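import Groth.Agent.ResProp.EF.K671.Seam
import Groth.Agent.ResProp.EF.K902.Shift
import Groth.Agent.ResProp.EF.K850.ShiftBase
import Groth.Agent.ResProp.EF.Fin669.StmtFIN

/-!
# G6b: everything from `K350.StmtFinStep`
-/

set_option autoImplicit false
set_option linter.dupNamespace false

open CategoryTheory Opposite TensorProduct

noncomputable section

namespace Groth.Agent.ResProp.EF.K671

open K784.BC K784.PM K741.RP EF56 K294 Grp Arch K83

universe u

/-- the output of G6b from the step -/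
theorem stmtG6b_of (h : K350.StmtFinStep.{u}) : StmtG6b.{u} :=
  stmtG6b K902.stmtOneStepShift K850.stmtShiftBase h

/-- **G6b for a kernel datum**. -/
theorem kernelOut_of (h : K350.StmtFinStep.{u}) (p : ℕ) {k : Type u} [CommRing k] [IsLb p k]
    {A : NFᵒᵖ ⥤ CommRingCat.{u}} [GRF k A] {x : PrimeSpectrum (A.obj (op ⟨0⟩))} (c : CoverDatum k A x)
    (K : KernelDatum c) :
    ∃ r' : ℕ, FinOut (A.obj (op ⟨0⟩)) ((A.obj (op ⟨0⟩) : Type u) ⊗[k] K.E.O) (c.Y.D.obj (op ⟨0⟩)) (cE c K.ι) r' :=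
  kernelOut c Fin669.stmtFIN (stmtG6b_of h) p K

end Groth.Agent.ResProp.EF.K671
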